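import Groth.Agent.L20.ModStalk
import Groth.Agent.L20.ResDescent
import Groth.Agent.L21.Mod.Locality
import Groth.Agent.L16.CohSupport
import Mathlib.AlgebraicGeometry.Morphisms.ClosedImmersion
import Mathlib.Topology.JacobsonSpace

/-! Modules on a self-product whose two actions agree. -/

set_option autoImplicit false
set_option linter.style.haveILetI false
set_option backward.isDefEq.respectTransparency false
set_option backward.isDefEq.respectTransparency.types false

universe u

open CategoryTheory CategoryTheory.Limits AlgebraicGeometry TopologicalSpace Opposite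

noncomputable section

namespace Groth.L07.FMDiag

variable {P : Scheme.{u}}

/-- Restriction of sections. -/
abbrev res (M : P.Modules) {U V : P.Opens} (h : V ≤ U) : Γ(M, U) →+ Γ(M, V) :=
  (M.presheaf.map (homOfLE h).op).hom

theorem germ_res (M : P.Modules) {U V : P.Opens} (h : V ≤ U) {w : P} (hw : w ∈ V) (s : Γ(M, U)) :
    M.presheaf.germ V w hw (res M h s) = M.presheaf.germ U w (h hw) s :=
  TopCat.Presheaf.germ_res_apply M.presheaf (homOfLE h) w hw s

theorem sections_ext (M : P.Modules) {U : P.Opens} {s t : Γ(M, U)}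
    (h : ∀ w (hw : w ∈ U), M.presheaf.germ U w hw s = M.presheaf.germ U w hw t) : s = t :=
  TopCat.Presheaf.section_ext (⟨M.presheaf, M.isSheaf⟩ : TopCat.Sheaf AddCommGrpCat.{u} P) U s t h

/-- Sections agree with those on an open containing the support inside. -/
theorem bijective_res' (M : P.Modules) {C : Set P} (hM : IsClosed C) (hC : CohB1.support M ⊆ C) {O O' : P.Opens}
    (h : O' ≤ O) (hs : ∀ w ∈ O, w ∈ C → w ∈ O') : Function.Bijective (res M h) := by
  refine ⟨fun s t hst => ?_, fun s => ?_⟩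
  · refine sections_ext M fun w hw => ?_
    by_cases hws : w ∈ C
    · rw [← germ_res M h (hs w hw hws) s, ← germ_res M h (hs w hw hws) t, hst]
    · haveI : Subsingleton (M.presheaf.stalk w) := not_not.1 fun h => hws (hC h)
      exact Subsingleton.elim _ _
  · let F : TopCat.Sheaf AddCommGrpCat.{u} P := ⟨M.presheaf, M.isSheaf⟩
    let O'' : P.Opens := O ⊓ ⟨Cᶜ, hM.isOpen_compl⟩
    let U : ULift.{u} Bool → P.Opens := fun b => cond b.down O' O''
    have hz : ∀ (V : P.Opens), (∀ w ∈ V, w ∉ C) → ∀ a b : Γ(M, V), a = b := fun V hV a b =>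
      sections_ext M fun w hw => by
        haveI : Subsingleton (M.presheaf.stalk w) := not_not.1 fun h => hV w hw (hC h)
        exact Subsingleton.elim _ _
    let sf : ∀ b, Γ(M, U b) := fun b => match b with | ⟨true⟩ => s | ⟨false⟩ => 0
    have hc : TopCat.Presheaf.IsCompatible M.presheaf U sf := by
      rintro ⟨(_ | _)⟩ ⟨(_ | _)⟩
      · rfl
      · exact hz _ (fun w (hw : w ∈ U ⟨false⟩ ⊓ U ⟨true⟩) => hw.1.2) _ _
      · exact hz _ (fun w (hw : w ∈ U ⟨true⟩ ⊓ U ⟨false⟩) => hw.2.2) _ _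
      · rfl
    obtain ⟨g, hg, -⟩ := F.existsUnique_gluing' U O
      (fun b => homOfLE (by rcases b with ⟨_ | _⟩ <;> [exact inf_le_left; exact h]))
      (fun w hw => by
        by_cases hws : w ∈ C
        · exact Opens.mem_iSup.2 ⟨⟨true⟩, hs w hw hws⟩
        · exact Opens.mem_iSup.2 ⟨⟨false⟩, hw, hws⟩) sf hc
    exact ⟨g, hg ⟨true⟩⟩

theorem bijective_res (M : P.Modules) (hM : IsClosed (CohB1.support M)) {O O' : P.Opens} (h : O' ≤ O)
    (hs : ∀ w ∈ O, w ∈ CohB1.support M → w ∈ O') : Function.Bijective (res M h) :=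
  bijective_res' M hM subset_rfl h hs

/-- A section whose germs at closed points vanish is zero. -/
theorem eq_zero_of_closed_germs [JacobsonSpace P] (M : P.Modules) {U : P.Opens} (s : Γ(M, U))
    (h : ∀ w (hw : w ∈ U), IsClosed ({w} : Set P) → M.presheaf.germ U w hw s = 0) : s = 0 := by
  refine sections_ext M fun w hw => ?_
  rw [map_zero]
  by_contra hne
  let Z : Set P := {y | ∃ hy : y ∈ U, M.presheaf.germ U y hy s ≠ 0}
  have hZ : IsLocallyClosed Z := by
    refine ⟨U, (Z ∪ (U : Set P)ᶜ), U.2, ?_, ?_⟩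
    · rw [← isOpen_compl_iff, isOpen_iff_forall_mem_open]
      intro y hy
      simp only [Set.mem_compl_iff, Set.mem_union, not_or, not_not] at hy
      have hy0 : M.presheaf.germ U y hy.2 s = 0 := by_contra fun hc => hy.1 ⟨hy.2, hc⟩
      obtain ⟨V, hyV, i₁, i₂, hV⟩ := TopCat.Presheaf.germ_eq M.presheaf y hy.2 hy.2 s 0 (by rw [hy0, map_zero])
      refine ⟨V, fun v hv => ?_, V.2, hyV⟩
      simp only [Set.mem_compl_iff, Set.mem_union, not_or, not_not]
      refine ⟨fun ⟨hv', hne'⟩ => hne' ?_, i₁.le hv⟩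
      rw [← TopCat.Presheaf.germ_res_apply M.presheaf i₁ v hv s]
      refine (congrArg (M.presheaf.germ V v hv) hV).trans ?_
      rw [map_zero, map_zero]
    · ext y
      simp only [Set.mem_inter_iff, Set.mem_union, Set.mem_compl_iff, Z, Set.mem_ofPred_eq, SetLike.mem_coe]
      exact ⟨fun ⟨hy, hy'⟩ => ⟨hy, Or.inl ⟨hy, hy'⟩⟩, fun ⟨hy, hy'⟩ => hy'.resolve_right (not_not.2 hy)⟩
  obtain ⟨v, ⟨hvU, hv⟩, hvc⟩ := nonempty_inter_closedPoints (Z := Z) ⟨w, hw, hne⟩ hZ
  exact hv (h v hvU hvc)

end Groth.L07.FMDiag
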