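import Groth.Agent.L07.BvdB.KernelSystem
import Groth.Agent.L29.DCoh.RHomBound
import Groth.Agent.L29.RelPC.FlatPull
import Groth.Agent.L29.DCoh.TensorAssoc
import Groth.Agent.L00.SingleTotal

/-! The values of a Fourier-Mukai functor with a kernel in one degree, naturally. -/

set_option autoImplicit false
set_option linter.style.haveILetI false
set_option backward.defeqAttrib.useBackward true
set_option backward.isDefEq.respectTransparency false
set_option backward.isDefEq.respectTransparency.types false

universe u

open CategoryTheory CategoryTheory.Limits AlgebraicGeometry DerivedCategory HomologicalComplex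
attribute [local instance] HasDerivedCategory.standard

noncomputable section

namespace Groth.L07.FMDiag

local notation "up" => ComplexShape.up ℤ

section Total

variable {C₁ C₂ D : Type*} [Category C₁] [Category C₂] [Category D]
  [Preadditive C₁] [HasZeroObject C₁] [Preadditive C₂] [Preadditive D]
  (F : C₁ ⥤ C₂ ⥤ D) [F.Additive] [∀ X, (F.obj X).Additive]
  [∀ (K₁ : CochainComplex C₁ ℤ) (K₂ : CochainComplex C₂ ℤ), CochainComplex.HasMapBifunctor K₁ K₂ F]
  (K : CochainComplex C₂ ℤ)

/-- Tensoring one fixed complex. -/
def termwise : C₁ ⥤ CochainComplex D ℤ where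
  obj M := ((F.obj M).mapHomologicalComplex up).obj K
  map f := (NatTrans.mapHomologicalComplex (F.map f) up).app K
  map_id M := by ext n; simp
  map_comp f g := by ext n; simp

/-- The total complex with an object in degree zero, naturally. -/
def termwiseIso : termwise F K ≅ single C₁ up 0 ⋙ F.map₂CochainComplex.flip.obj K :=
  NatIso.ofComponents (fun M => Groth.L00.SingleTotal.iso F M K) fun {M M'} f => by
    ext n
    change (F.map f).app (K.X n) ≫ (Groth.L00.SingleTotal.XIso F M' K n).hom =
      (Groth.L00.SingleTotal.XIso F M K n).hom ≫ (mapBifunctorMap ((single C₁ up 0).map f) (𝟙 K) F up).f n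
    dsimp [Groth.L00.SingleTotal.XIso]
    rw [Category.assoc, ι_mapBifunctorMap, ← Category.assoc, ← Category.assoc, id_f, CategoryTheory.Functor.map_id]
    erw [Category.id_comp]
    rw [← NatTrans.comp_app, ← NatTrans.comp_app, ← Functor.map_comp, ← Functor.map_comp, single_map_f_self]
    simp

/-- An object in degree zero after termwise application, naturally. -/
def termwiseSingleIso [HasZeroObject C₂] [HasZeroObject D] (M : C₂) :
    termwise F ((single C₂ up 0).obj M) ≅ F.flip.obj M ⋙ single D up 0 :=
  NatIso.ofComponents (fun G => (singleMapHomologicalComplex (F.obj G) up 0).app M) fun {G G'} f => by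
    refine to_single_hom_ext ?_
    change (F.map f).app (((single C₂ up 0).obj M).X 0) ≫
        ((singleMapHomologicalComplex (F.obj G') up 0).hom.app M).f 0 =
      ((singleMapHomologicalComplex (F.obj G) up 0).hom.app M).f 0 ≫ ((single D up 0).map ((F.map f).app M)).f 0
    rw [singleMapHomologicalComplex_hom_app_self, singleMapHomologicalComplex_hom_app_self, single_map_f_self]
    simp

end Total

section Complexes

variable {A : Type*} [Category A] [Abelian A] (L : CochainComplex A ℤ) [L.IsStrictlyLE 0]

/-- The map of a nonpositive complex to its top cohomology. -/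
def toTop : L ⟶ (single A up 0).obj (L.homology 0) :=
  mkHomToSingle (L.pOpcycles 0 ≫ (L.isoHomologyι 0 1 (by simp)
    ((L.isZero_of_isStrictlyLE 0 1 (by omega)).eq_of_tgt _ _)).inv) fun i hi => by
    rw [← Category.assoc, d_pOpcycles, zero_comp]

theorem quasiIsoAt_toTop : QuasiIsoAt (toTop L) 0 := by
  rw [quasiIsoAt_iff_isIso_homologyMap]
  have h1 : (L.isoHomologyι 0 1 (by simp) ((L.isZero_of_isStrictlyLE 0 1 (by omega)).eq_of_tgt _ _)).hom =
      L.homologyι 0 := rfl
  haveI : IsIso (((single A up 0).obj (L.homology 0)).homologyι 0) :=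
    (((single A up 0).obj (L.homology 0)).isoHomologyι 0 1 (by simp) (by simp)).isIso_hom
  have h2 : IsIso (opcyclesMap (toTop L) 0) := by
    have h3 : L.pOpcycles 0 ≫ opcyclesMap (toTop L) 0 ≫
        (singleObjOpcyclesSelfIso up 0 (L.homology 0)).inv = L.pOpcycles 0 ≫
          (L.isoHomologyι 0 1 (by simp) ((L.isZero_of_isStrictlyLE 0 1 (by omega)).eq_of_tgt _ _)).inv := by
      rw [p_opcyclesMap_assoc, pOpcycles_singleObjOpcyclesSelfIso_inv, toTop]
      simp
    rw [cancel_epi] at h3
    haveI : IsIso (opcyclesMap (toTop L) 0 ≫ (singleObjOpcyclesSelfIso up 0 (L.homology 0)).inv) := by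
      rw [h3]; infer_instance
    exact IsIso.of_isIso_comp_right _ (singleObjOpcyclesSelfIso up 0 (L.homology 0)).inv
  haveI : IsIso (L.homologyι 0) := h1 ▸ Iso.isIso_hom _
  have h4 := homologyι_naturality (toTop L) 0
  haveI : IsIso (homologyMap (toTop L) 0 ≫ ((single A up 0).obj (L.homology 0)).homologyι 0) := by
    rw [h4]; infer_instance
  exact IsIso.of_isIso_comp_right _ (((single A up 0).obj (L.homology 0)).homologyι 0)

variable {B : Type*} [Category B] [Abelian B] (F : A ⥤ B) [F.Additive] [PreservesFiniteColimits F]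

theorem quasiIso_map_toTop (h : ∀ i : ℤ, i ≠ 0 → IsZero (((F.mapHomologicalComplex up).obj L).homology i)) :
    QuasiIso ((F.mapHomologicalComplex up).map (toTop L)) := by
  rw [quasiIso_iff]
  intro i
  by_cases hi : i = 0
  · subst hi
    rw [quasiIsoAt_iff' _ (-1) 0 1 (by simp) (by simp)]
    have := (quasiIsoAt_iff' (toTop L) (-1) 0 1 (by simp) (by simp)).1 (quasiIsoAt_toTop L)
    haveI : F.PreservesRightHomologyOf (L.sc' (-1) 0 1) :=
      F.preservesRightHomology_of_zero_g _ ((L.isZero_of_isStrictlyLE 0 1 (by omega)).eq_of_tgt _ _)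
    haveI : F.PreservesRightHomologyOf (((single A up 0).obj (L.homology 0)).sc' (-1) 0 1) :=
      F.preservesRightHomology_of_zero_g _ (single_obj_d (c := up) _ _ _ _)
    exact ShortComplex.quasiIso_map_of_preservesRightHomology (F := F)
      (φ := (shortComplexFunctor' A up (-1) 0 1).map (toTop L))
  · rw [quasiIsoAt_iff_isIso_homologyMap]
    refine (h i hi).isIso ?_ _
    rw [← exactAt_iff_isZero_homology]
    exact (exactAt_single_obj up 0 _ i hi).of_iso ((singleMapHomologicalComplex F up 0).app _).symm

theorem mono_homologyMap_of_single {K L : CochainComplex A ℤ} (φ : K ⟶ L) [Mono (φ.f 0)] (hL : IsZero (L.X (-1))) :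
    Mono (homologyMap φ 0) := by
  haveI : Mono (cyclesMap φ 0) := by
    haveI : Mono (cyclesMap φ 0 ≫ L.iCycles 0) := by rw [cyclesMap_i]; infer_instance
    exact mono_of_mono _ (L.iCycles 0)
  haveI := L.isIso_homologyπ (-1) 0 (by simp) (hL.eq_of_src _ _)
  haveI : Mono (cyclesMap φ 0 ≫ L.homologyπ 0) := mono_comp _ _
  haveI : Mono (K.homologyπ 0 ≫ homologyMap φ 0) := by rw [homologyπ_naturality]; infer_instance
  haveI : IsIso (K.homologyπ 0) := by
    haveI := mono_of_mono (K.homologyπ 0) (homologyMap φ 0)
    exact isIso_of_mono_of_epi _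
  rw [← IsIso.inv_hom_id_assoc (K.homologyπ 0) (homologyMap φ 0)]
  exact mono_comp _ _

end Complexes

section Pull

open Groth.L00

variable {X P : Scheme.{u}} (f : P ⟶ X) [Flat f] [DCoh.HasLpull f]

theorem isIso_counit_flat (S : CochainComplex X.Modules ℤ) :
    IsIso ((DerivedApi.counit (Scheme.Modules.pullback f)).app S) := by
  haveI := Groth.L29.RelPC.preservesFiniteLimits_pullback f
  let G := Scheme.Modules.pullback f
  haveI : IsIso ((DerivedApi.counit G).app ((KFlat.RF X).obj S)) :=
    DerivedApi.isIso_counit (DerivedApi.acyclicKFlat_pullback f) _ (KFlat.isKFlat_RF S)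
  haveI := KFlat.quasiIso_rF S
  haveI : IsIso ((HomotopyCategory.quotient X.Modules up ⋙ DerivedCategory.Qh).map ((KFlat.rF X).app S)) :=
    Localization.inverts _ (HomologicalComplex.quasiIso X.Modules up) _ ((mem_quasiIso_iff _).2 inferInstance)
  haveI : IsIso ((DerivedApi.Cxq G).map ((KFlat.rF X).app S)) := by
    refine (NatIso.isIso_map_iff (DerivedApi.cxqIso G) _).2 ?_
    exact Localization.inverts DerivedCategory.Q (HomologicalComplex.quasiIso P.Modules up) _
      ((mem_quasiIso_iff _).2 inferInstance)
  have hn := (DerivedApi.counit G).naturality ((KFlat.rF X).app S)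
  haveI : IsIso (((HomotopyCategory.quotient X.Modules up ⋙ DerivedCategory.Qh) ⋙ DerivedApi.LG G).map ((KFlat.rF X).app S) ≫
      (DerivedApi.counit G).app S) := by
    erw [hn]; exact IsIso.comp_isIso
  haveI : IsIso (((HomotopyCategory.quotient X.Modules up ⋙ DerivedCategory.Qh) ⋙ DerivedApi.LG G).map ((KFlat.rF X).app S)) :=
    inferInstanceAs (IsIso ((DerivedApi.LG G).map _))
  exact IsIso.of_isIso_comp_left (((HomotopyCategory.quotient X.Modules up ⋙ DerivedCategory.Qh) ⋙ DerivedApi.LG G).map ((KFlat.rF X).app S)) _

/-- Derived pullback of modules along a flat morphism, naturally. -/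
def pullSingleIso : singleFunctor X.Modules 0 ⋙ DCoh.Lpull f ≅
    Scheme.Modules.pullback f ⋙ single P.Modules up 0 ⋙ DerivedCategory.Q :=
  haveI : ∀ S, IsIso ((DerivedApi.counit (Scheme.Modules.pullback f)).app S) := isIso_counit_flat f
  haveI : IsIso (DerivedApi.counit (Scheme.Modules.pullback f)) := NatIso.isIso_of_isIso_app _
  Functor.isoWhiskerRight ((SingleFunctors.evaluation _ _ 0).mapIso
      (DerivedCategory.singleFunctorsPostcompQIso X.Modules) ≪≫
    Functor.isoWhiskerLeft (single X.Modules up 0) (DerivedCategory.quotientCompQhIso X.Modules).symm) (DCoh.Lpull f) ≪≫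
  Functor.associator _ _ _ ≪≫
  Functor.isoWhiskerLeft (single X.Modules up 0)
    (asIso (DerivedApi.counit (Scheme.Modules.pullback f)) ≪≫ DerivedApi.cxqIso _) ≪≫
  (Functor.associator _ _ _).symm ≪≫
  Functor.isoWhiskerRight (singleMapHomologicalComplex (Scheme.Modules.pullback f) up 0) DerivedCategory.Q ≪≫
  Functor.associator _ _ _

end Pull

section Push

variable {X Y : Scheme.{u}} (f : X ⟶ Y) [DCoh.HasRpush f]

/-- The comparison on complexes. -/
def unitCx [(Scheme.Modules.pushforward f).Additive] :
    (Scheme.Modules.pushforward f).mapHomologicalComplex up ⋙ DerivedCategory.Q ⟶ DerivedCategory.Q ⋙ DCoh.Rpush f :=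
  Functor.whiskerLeft _ (DerivedCategory.quotientCompQhIso Y.Modules).inv ≫
    (Functor.associator _ _ _).inv ≫
    Functor.whiskerRight ((Scheme.Modules.pushforward f).mapHomotopyCategoryFactors up).inv _ ≫
    (Functor.associator _ _ _).hom ≫
    Functor.whiskerLeft _ ((DCoh.pushKh f).totalRightDerivedUnit DerivedCategory.Qh
      (HomotopyCategory.quasiIso X.Modules up)) ≫
    (Functor.associator _ _ _).inv ≫
    Functor.whiskerRight (DerivedCategory.quotientCompQhIso X.Modules).hom _

/-- Cohomology in degree zero of the derived direct image of a module. -/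
def zeroMap [(Scheme.Modules.pushforward f).Additive] :
    Scheme.Modules.pushforward f ⟶ singleFunctor X.Modules 0 ⋙ DCoh.Rpush f ⋙ homologyFunctor Y.Modules 0 :=
  (Functor.rightUnitor _).inv ≫
  Functor.whiskerLeft _ (homologyFunctorSingleIso Y.Modules up 0).inv ≫
  (Functor.associator _ _ _).inv ≫
  Functor.whiskerRight (singleMapHomologicalComplex (Scheme.Modules.pushforward f) up 0).inv _ ≫
  (Functor.associator _ _ _).hom ≫
  Functor.whiskerLeft _ (Functor.whiskerLeft _ (homologyFunctorFactors Y.Modules 0).inv) ≫
  Functor.whiskerLeft _ ((Functor.associator _ _ _).inv ≫ Functor.whiskerRight (unitCx f) (homologyFunctor Y.Modules 0)) ≫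
  (Functor.associator _ _ _).inv ≫ Functor.whiskerRight ((Functor.associator _ _ _).inv ≫
    Functor.whiskerRight ((SingleFunctors.evaluation _ _ 0).mapIso
      (DerivedCategory.singleFunctorsPostcompQIso X.Modules)).inv _) _ ≫ (Functor.associator _ _ _).hom

theorem mono_zeroMap [(Scheme.Modules.pushforward f).Additive] (N : X.Modules) : Mono ((zeroMap f).app N) := by
  haveI := Groth.L17.PushQCoh.hasInjectiveResolutions X
  haveI := Groth.L29.DC.QRlim.enoughKInj X
  let R := injectiveResolution N
  haveI : CochainComplex.IsKInjective R.cochainComplex :=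
    inferInstanceAs (CochainComplex.IsKInjective (R.cocomplex.extend ComplexShape.embeddingUpNat))
  let α := (DCoh.pushKh f).totalRightDerivedUnit DerivedCategory.Qh (HomotopyCategory.quasiIso X.Modules up)
  haveI := Groth.L10.KInjDerived.isIso_app_quotient α R.cochainComplex
  have hu : IsIso ((unitCx f).app R.cochainComplex) := by
    simp only [unitCx, NatTrans.comp_app, Functor.whiskerLeft_app, Functor.whiskerRight_app]
    infer_instance
  let S := (single X.Modules up 0).obj N
  let F := (Scheme.Modules.pushforward f).mapHomologicalComplex up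
  haveI : Mono (R.ι'.f 0) := by
    rw [InjectiveResolution.ι'_f_zero]
    infer_instance
  haveI : (Scheme.Modules.pushforward f).PreservesMonomorphisms :=
    Functor.preservesMonomorphisms_of_adjunction (Scheme.Modules.pullbackPushforwardAdjunction f)
  haveI : Mono ((F.map R.ι').f 0) := inferInstanceAs (Mono ((Scheme.Modules.pushforward f).map (R.ι'.f 0)))
  have hz : IsZero ((F.obj R.cochainComplex).X (-1)) := (Scheme.Modules.pushforward f).map_isZero
    (R.cochainComplex.isZero_of_isStrictlyGE 0 (-1) (by omega))
  haveI hm : Mono ((homologyFunctor Y.Modules 0).map (DerivedCategory.Q.map (F.map R.ι'))) :=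
    ((MorphismProperty.monomorphisms _).arrow_mk_iso_iff
      (Arrow.isoMk ((homologyFunctorFactors Y.Modules 0).app _) ((homologyFunctorFactors Y.Modules 0).app _)
        ((homologyFunctorFactors Y.Modules 0).hom.naturality (F.map R.ι')).symm)).2
      (mono_homologyMap_of_single (F.map R.ι') hz)
  have hn := congrArg (homologyFunctor Y.Modules 0).map ((unitCx f).naturality R.ι')
  rw [Functor.map_comp, Functor.map_comp] at hn
  haveI : Mono ((homologyFunctor Y.Modules 0).map ((unitCx f).app S) ≫
      (homologyFunctor Y.Modules 0).map ((DerivedCategory.Q ⋙ DCoh.Rpush f).map R.ι')) := by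
    haveI h1 : Mono ((homologyFunctor Y.Modules 0).map ((F ⋙ DerivedCategory.Q).map R.ι')) := hm
    erw [← hn]; exact mono_comp' h1 inferInstance
  haveI : Mono ((homologyFunctor Y.Modules 0).map ((unitCx f).app S)) :=
    mono_of_mono _ ((homologyFunctor Y.Modules 0).map ((DerivedCategory.Q ⋙ DCoh.Rpush f).map R.ι'))
  simp only [zeroMap, NatTrans.comp_app, Functor.whiskerLeft_app, Functor.whiskerRight_app]
  repeat' (first | infer_instance | apply mono_comp')

end Push

end Groth.L07.FMDiag
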