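import Groth.Agent.L07.FMDiag.Basic
import Groth.Agent.L07.BoxSurj.Basic
import Groth.Agent.L19.ProjBdl.KerSect
import Groth.Agent.L16.CohKernel
import Groth.Agent.L16.CohClosedPush
import Groth.Agent.L16.Rees.RelVanish
import Groth.Agent.L15.PureKill.Basic
import Groth.Agent.L29.DCoh.PCQCoh
import Groth.Agent.L16.AffineBC.Pullback

/-! A module on a self-product whose two actions agree and whose direct image is free of rank one is
the structure sheaf of the diagonal. -/

set_option autoImplicit false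
set_option linter.style.haveILetI false
set_option backward.isDefEq.respectTransparency false
set_option backward.isDefEq.respectTransparency.types false

universe u

open CategoryTheory CategoryTheory.Limits AlgebraicGeometry TopologicalSpace Opposite

noncomputable section

namespace Groth.L07.FMDiag

variable {X S : Scheme.{u}} (f : X ⟶ S)

local notation "p₁" => pullback.fst f f
local notation "p₂" => pullback.snd f f
local notation "Δ" => pullback.diagonal f

/-- The square of an open. -/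
abbrev sq (U : X.Opens) : (pullback f f).Opens := p₁ ⁻¹ᵁ U ⊓ p₂ ⁻¹ᵁ U

/-- The first action. -/
abbrev act₁ (U : X.Opens) : Γ(X, U) ⟶ Γ(pullback f f, sq f U) := Scheme.Hom.appLE p₁ U _ inf_le_left

/-- The second action. -/
abbrev act₂ (U : X.Opens) : Γ(X, U) ⟶ Γ(pullback f f, sq f U) := Scheme.Hom.appLE p₂ U _ inf_le_right

theorem le_diag_preimage (U : X.Opens) : U ≤ Δ ⁻¹ᵁ sq f U := fun x hx =>
  ⟨show p₁ (Δ x) ∈ U by rw [← Scheme.Hom.comp_apply, pullback.diagonal_fst]; exact hx,
    show p₂ (Δ x) ∈ U by rw [← Scheme.Hom.comp_apply, pullback.diagonal_snd]; exact hx⟩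

theorem diag_preimage (U : X.Opens) : Δ ⁻¹ᵁ sq f U = U :=
  le_antisymm (fun x hx => by
    have h : p₁ (Δ x) ∈ U := hx.1
    rwa [← Scheme.Hom.comp_apply, pullback.diagonal_fst] at h) (le_diag_preimage f U)

theorem act_diag (U : X.Opens) (r : Γ(X, U)) :
    (Scheme.Hom.appLE Δ (sq f U) U (le_diag_preimage f U)) (act₂ f U r) = r := by
  rw [← CommRingCat.comp_apply, Scheme.Hom.appLE_comp_appLE]
  have : ∀ (g : X ⟶ X) (hg : g = 𝟙 X) (e : U ≤ g ⁻¹ᵁ U), g.appLE U U e r = r := by
    intro g hg e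
    subst hg
    simp [Scheme.Hom.appLE]
    exact congr($(X.presheaf.map_id _) r)
  exact this _ (pullback.diagonal_snd f) _

theorem isAffineOpen_sq [IsAffine S] {U : X.Opens} (hU : IsAffineOpen U) : IsAffineOpen (sq f U) :=
  Groth.L07.BoxSurj.isAffineOpen_inter _ _ (IsPullback.of_hasPullback f f) hU hU

/-- Affine-local consequences of equal actions. -/
theorem ann_of_agree [IsAffine S] {U : X.Opens} (hU : IsAffineOpen U) (M : (pullback f f).Modules)
    [Coh.IsQCoh M] (h : ∀ (r : Γ(X, U)) (s : Γ(M, sq f U)), act₁ f U r • s = act₂ f U r • s) :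
    (∀ a : Γ(pullback f f, sq f U), Scheme.Hom.appLE Δ (sq f U) U (le_diag_preimage f U) a = 0 →
        ∀ s : Γ(M, sq f U), a • s = 0) ∧
      ∀ w : (pullback f f :), w ∈ sq f U → w ∈ CohB1.support M → p₁ w = p₂ w := by
  let O' := sq f U
  have hO' : IsAffineOpen O' := isAffineOpen_sq f hU
  let A := Module.annihilator Γ(pullback f f, O') Γ(M, O')
  let mk : Γ(pullback f f, O') ⟶ CommRingCat.of (Γ(pullback f f, O') ⧸ A) :=
    CommRingCat.ofHom (Ideal.Quotient.mk A)
  have hmk : act₁ f U ≫ mk = act₂ f U ≫ mk := by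
    ext r
    refine Ideal.Quotient.eq.2 (Module.mem_annihilator.2 fun s => ?_)
    exact (sub_smul _ _ _).trans (sub_eq_zero.2 (h r s))
  let g := Spec.map mk ≫ hO'.fromSpec
  let g₀ := Spec.map (act₁ f U ≫ mk) ≫ hU.fromSpec
  have hg1 : g ≫ p₁ = g₀ := by
    rw [Category.assoc, ← IsAffineOpen.SpecMap_appLE_fromSpec p₁ hU hO' inf_le_left, ← Category.assoc,
      ← Spec.map_comp]
  have hg2 : g ≫ p₂ = g₀ := by
    rw [Category.assoc, ← IsAffineOpen.SpecMap_appLE_fromSpec p₂ hU hO' inf_le_right, ← Category.assoc,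
      ← Spec.map_comp, ← hmk]
  have hgΔ : g = g₀ ≫ Δ := pullback.hom_ext
    (hg1.trans (by rw [Category.assoc, pullback.diagonal_fst, Category.comp_id]))
    (hg2.trans (by rw [Category.assoc, pullback.diagonal_snd, Category.comp_id]))
  have hfac : Spec.map mk =
      Spec.map (Scheme.Hom.appLE Δ O' U (le_diag_preimage f U) ≫ act₁ f U ≫ mk) := by
    rw [← cancel_mono hO'.fromSpec, Spec.map_comp, Category.assoc,
      IsAffineOpen.SpecMap_appLE_fromSpec Δ hO' hU (le_diag_preimage f U), ← Category.assoc]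
    exact hgΔ
  refine ⟨fun a ha s => ?_, fun w hw hws => ?_⟩
  · have h1 := congr($(Spec.map_injective hfac) a)
    rw [CommRingCat.comp_apply, ha, map_zero] at h1
    exact Module.mem_annihilator.1 (Ideal.Quotient.eq_zero_iff_mem.1 h1) s
  · have hA : A ≤ (hO'.primeIdealOf ⟨w, hw⟩).asIdeal := by
      intro a ha
      by_contra hne
      apply hws
      letI := Groth.L20.ModStalk.stalkModule M hw
      haveI := Groth.L20.ModStalk.isLocalizedModule_germ M hO' hw
      refine ⟨fun y y' => ?_⟩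
      have hz : ∀ z, z = (0 : M.presheaf.stalk w) := fun z => by
        obtain ⟨⟨m, t⟩, hmt⟩ := IsLocalizedModule.surj (hO'.primeIdealOf ⟨w, hw⟩).asIdeal.primeCompl
          (Groth.L20.ModStalk.germₗ M hw) z
        have h2 : (⟨a, hne⟩ : (hO'.primeIdealOf ⟨w, hw⟩).asIdeal.primeCompl) • (Groth.L20.ModStalk.germₗ M hw m) = 0 := by
          rw [Submonoid.smul_def, ← map_smul, Module.mem_annihilator.1 ha m, map_zero]
        have h3 : Groth.L20.ModStalk.germₗ M hw m = 0 :=
          (IsLocalizedModule.smul_inj (Groth.L20.ModStalk.germₗ M hw) _ _ _).1 (h2.trans (smul_zero _).symm)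
        exact (IsLocalizedModule.smul_inj (Groth.L20.ModStalk.germₗ M hw) t _ _).1
          ((hmt.trans h3).trans (smul_zero _).symm)
      rw [hz y, hz y']
    obtain ⟨q, hq⟩ : hO'.primeIdealOf ⟨w, hw⟩ ∈ Set.range (PrimeSpectrum.comap mk.hom) := by
      show hO'.primeIdealOf ⟨w, hw⟩ ∈ Set.range (PrimeSpectrum.comap (Ideal.Quotient.mk A))
      rw [range_comap_of_surjective _ _ Ideal.Quotient.mk_surjective, PrimeSpectrum.mem_zeroLocus,
        Ideal.mk_ker]
      exact hA
    have hgq : g q = w := by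
      show hO'.fromSpec (Spec.map mk q) = w
      rw [show Spec.map mk q = hO'.primeIdealOf ⟨w, hw⟩ from hq]
      exact hO'.fromSpec_primeIdealOf ⟨w, hw⟩
    rw [← hgq, ← Scheme.Hom.comp_apply, ← Scheme.Hom.comp_apply, hg1, hg2]

/-- A quasi-coherent module supported in squares of affine opens with no sections on them is zero. -/
theorem isZero_of_sections [IsAffine S] (N : (pullback f f).Modules) [Coh.IsQCoh N]
    (hs : ∀ w ∈ CohB1.support N, ∃ U : X.Opens, IsAffineOpen U ∧ w ∈ sq f U)
    (h : ∀ U : X.Opens, IsAffineOpen U → ∀ m : Γ(N, sq f U), m = 0) : IsZero N := by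
  rw [Groth.L21.Mod.isZero_iff_support_eq_empty]
  refine Set.eq_empty_of_forall_notMem fun w hw => ?_
  obtain ⟨U, hU, hwU⟩ := hs w hw
  apply hw
  letI := Groth.L20.ModStalk.stalkModule N hwU
  haveI := Groth.L20.ModStalk.isLocalizedModule_germ N (isAffineOpen_sq f hU) hwU
  refine ⟨fun y y' => ?_⟩
  have hz : ∀ z, z = (0 : N.presheaf.stalk w) := fun z => by
    obtain ⟨⟨m, t⟩, hmt⟩ := IsLocalizedModule.surj ((isAffineOpen_sq f hU).primeIdealOf ⟨w, hwU⟩).asIdeal.primeCompl
      (Groth.L20.ModStalk.germₗ N hwU) z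
    rw [h U hU m, map_zero] at hmt
    exact (IsLocalizedModule.smul_inj (Groth.L20.ModStalk.germₗ N hwU) t _ _).1
      (hmt.trans (smul_zero _).symm)
  rw [hz y, hz y']

/-- Recognition of the structure sheaf of the diagonal. -/
theorem nonempty_iso_diag [IsAffine S] [IsSeparated f] [IsLocallyNoetherian X] [IsLocallyNoetherian (pullback f f)]
    [JacobsonSpace (pullback f f :)] (M : (pullback f f).Modules) (hM : Coh.IsCoh M)
    (hp : ∀ w : (pullback f f :), IsClosed ({w} : Set (pullback f f :)) → w ∈ CohB1.support M → p₁ w = p₂ w)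
    (hact : ∀ U : X.Opens, IsAffineOpen U → ∀ (r : Γ(X, U)) (s : Γ(M, sq f U)), act₁ f U r • s = act₂ f U r • s)
    (e : (Scheme.Modules.pushforward p₂).obj M ≅ Coh.structureModule X) :
    Nonempty (M ≅ (Coh.push Δ).obj (Coh.structureModule X)) := by
  haveI : Coh.IsQCoh M := hM.1
  have hcov : ∀ w ∈ CohB1.support M, ∃ U : X.Opens, IsAffineOpen U ∧ w ∈ sq f U := by
    intro w hw
    obtain ⟨z, hzc, hz⟩ := nonempty_inter_closedPoints (Z := closure ({w} : Set (pullback f f :)))
      ⟨w, subset_closure rfl⟩ isClosed_closure.isLocallyClosed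
    have hzs : z ∈ CohB1.support M := (closure_minimal (Set.singleton_subset_iff.2 hw)
      (Groth.L16.CohSupport.isClosed_support _ hM.2)) hzc
    obtain ⟨_, ⟨U, hU, rfl⟩, hzU, -⟩ := X.isBasis_affineOpens.exists_subset_of_mem_open
      (Set.mem_univ (p₁ z)) isOpen_univ
    have hzO : z ∈ sq f U := ⟨hzU, show p₂ z ∈ U from hp z hz hzs ▸ hzU⟩
    exact ⟨U, hU, (specializes_iff_mem_closure.2 hzc).mem_open (sq f U).2 hzO⟩
  have heq : ∀ w ∈ CohB1.support M, p₁ w = p₂ w := fun w hw => by
    obtain ⟨U, hU, hwU⟩ := hcov w hw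
    exact (ann_of_agree f hU M (hact U hU)).2 w hwU hw
  haveI : IsClosedImmersion Δ := inferInstance
  let ΔO := (Coh.push Δ).obj (Coh.structureModule X)
  have hΔc : Coh.IsCoh ΔO :=
    Groth.L16.CohClosedPush.isCoh_push Δ (Groth.L16.Rees.RelVanish.isCoh_structureModule X)
  haveI : Coh.IsQCoh ΔO := hΔc.1
  have hO : Coh.IsCoh (Coh.structureModule (pullback f f)) := Groth.L16.Rees.RelVanish.isCoh_structureModule _
  haveI : Coh.IsQCoh (Coh.structureModule (pullback f f)) := hO.1
  let ψ : Coh.structureModule (pullback f f) ⟶ M :=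
    Groth.L16.homOfSection M (e.inv.app ⊤ (1 : Γ(X, ⊤)))
  let π : Coh.structureModule (pullback f f) ⟶ ΔO :=
    Groth.L16.homOfSection ΔO (show Γ(ΔO, ⊤) from (1 : Γ(X, Δ ⁻¹ᵁ ⊤)))
  have hπ : ∀ (V : (pullback f f).Opens) (a : Γ(Coh.structureModule (pullback f f), V)),
      π.app V a = (show Γ(ΔO, V) from Scheme.Hom.app Δ V a) := fun V a => by
    rw [Groth.L16.homOfSection_app]
    exact (congrArg (fun b : Γ(X, Δ ⁻¹ᵁ V) => Scheme.Hom.app Δ V a * b)
      (map_one (X.presheaf.map ((Opens.map (Δ).base).map (homOfLE (le_top : V ≤ ⊤))).op).hom)).trans (mul_one _)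
  have hsur : ∀ V : (pullback f f).Opens, IsAffineOpen V → Function.Surjective (π.app V) := fun V hV y => by
    obtain ⟨a, ha⟩ := Scheme.Hom.app_surjective Δ V hV y
    exact ⟨a, (hπ V a).trans ha⟩
  haveI hepi : Epi π := by
    refine Abelian.epi_of_cokernel_π_eq_zero _ (Groth.L20.ResDescent.eq_zero_of_affine _ fun w => ?_)
    obtain ⟨_, ⟨V, hV, rfl⟩, hwV, -⟩ := (pullback f f).isBasis_affineOpens.exists_subset_of_mem_open
      (Set.mem_univ w) isOpen_univ
    refine ⟨V, hV, hwV, fun m => ?_⟩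
    obtain ⟨a, rfl⟩ := hsur V hV m
    exact congr($(congrArg (fun k => Scheme.Modules.Hom.app k V) (cokernel.condition π)) a)
  have hkill : kernel.ι π ≫ ψ = 0 := by
    haveI : Coh.IsQCoh (kernel π) := (Groth.L16.CohKernel.isCoh_kernel_cokernel hO hΔc π).1.1
    refine Groth.L20.ResDescent.eq_zero_of_affine _ fun w => ?_
    by_cases hw : w ∈ CohB1.support M
    · obtain ⟨U, hU, hwU⟩ := hcov w hw
      refine ⟨sq f U, isAffineOpen_sq f hU, hwU, fun a => ?_⟩
      have h0 : π.app (sq f U) ((kernel.ι π).app (sq f U) a) = 0 :=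
        congr($(congrArg (fun k => Scheme.Modules.Hom.app k (sq f U)) (kernel.condition π)) a)
      rw [hπ] at h0
      show ψ.app _ ((kernel.ι π).app _ a) = 0
      rw [Groth.L16.homOfSection_app]
      refine (ann_of_agree f hU M (hact U hU)).1 _ ?_ _
      show X.presheaf.map _ (Scheme.Hom.app Δ (sq f U) _) = 0
      rw [show Scheme.Hom.app Δ (sq f U) _ = 0 from h0, map_zero]
    · obtain ⟨_, ⟨V, hV, rfl⟩, hwV, hVs⟩ := (pullback f f).isBasis_affineOpens.exists_subset_of_mem_open
        (show w ∈ (CohB1.support M)ᶜ from hw) (Groth.L16.CohSupport.isClosed_support _ hM.2).isOpen_compl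
      exact ⟨V, hV, hwV, fun a => sections_ext M fun v hv => by
        haveI : Subsingleton (M.presheaf.stalk v) := not_not.1 (hVs hv)
        exact Subsingleton.elim _ _⟩
  let ψ' : ΔO ⟶ M := Abelian.epiDesc π ψ hkill
  have hψ' : π ≫ ψ' = ψ := Abelian.comp_epiDesc π ψ hkill
  have hbij : ∀ U : X.Opens, IsAffineOpen U → Function.Bijective (ψ'.app (sq f U)) := by
    intro U hU
    let ρ : Γ(X, U) → Γ(ΔO, sq f U) := fun r => π.app (sq f U) (act₂ f U r)
    have hρ : Function.Bijective ρ := by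
      haveI : IsIso (homOfLE (le_diag_preimage f U)) :=
        ⟨homOfLE (diag_preimage f U).le, Subsingleton.elim _ _, Subsingleton.elim _ _⟩
      have hi : Function.Bijective (X.presheaf.map (homOfLE (le_diag_preimage f U)).op) :=
        ConcreteCategory.bijective_of_isIso _
      have hr : ∀ r, X.presheaf.map (homOfLE (le_diag_preimage f U)).op
          (show Γ(X, Δ ⁻¹ᵁ sq f U) from ρ r) = r := fun r =>
        (congrArg (X.presheaf.map (homOfLE (le_diag_preimage f U)).op) (hπ _ _)).trans (act_diag f U r)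
      refine (Function.Bijective.of_comp_iff' hi ρ).1 ?_
      exact (show (X.presheaf.map (homOfLE (le_diag_preimage f U)).op ∘ ρ) = id from funext hr) ▸
        Function.bijective_id
    refine (Function.Bijective.of_comp_iff _ hρ).1 ?_
    have hres := bijective_res M (Groth.L16.CohSupport.isClosed_support _ hM.2)
      (inf_le_right : sq f U ≤ p₂ ⁻¹ᵁ U) (fun w hw hws => ⟨show p₁ w ∈ U from (heq w hws).symm ▸ hw, hw⟩)
    have hinv : Function.Bijective (e.inv.app U) :=
      (ConcreteCategory.isIso_iff_bijective _).1 (Scheme.Modules.Hom.isIso_iff_isIso_app.1 inferInstance U)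
    have key : ∀ r, ψ'.app (sq f U) (ρ r) =
        res M (inf_le_right : sq f U ≤ p₂ ⁻¹ᵁ U) (e.inv.app U r) := fun r => by
      refine (congr($(congrArg (fun k => Scheme.Modules.Hom.app k (sq f U)) hψ') (act₂ f U r))).trans ?_
      rw [Groth.L16.homOfSection_app]
      have h1 : e.inv.app U r = (show Γ(X, U) from r) • (e.inv.app U (1 : Γ(X, U))) := by
        rw [← Scheme.Modules.Hom.app_smul]
        exact congrArg _ (mul_one r).symm
      rw [h1]
      refine Eq.trans ?_ (show act₂ f U r • res M (inf_le_right : sq f U ≤ p₂ ⁻¹ᵁ U) (e.inv.app U (1 : Γ(X, U))) = _ from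
        (Scheme.Modules.map_smul M (homOfLE (inf_le_right : sq f U ≤ p₂ ⁻¹ᵁ U)) (Scheme.Hom.app p₂ U r) _).symm)
      congr 1
      have h2 : e.inv.app U (1 : Γ(X, U)) =
          ((Scheme.Modules.pushforward p₂).obj M).presheaf.map (homOfLE (le_top : U ≤ ⊤)).op
            (e.inv.app ⊤ (1 : Γ(X, ⊤))) := by
        refine Eq.trans (congrArg _ (map_one (X.presheaf.map (homOfLE (le_top : U ≤ ⊤)).op).hom).symm) ?_
        exact congr($(e.inv.mapPresheaf.naturality (homOfLE (le_top : U ≤ ⊤)).op) (1 : Γ(X, ⊤)))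
      rw [h2]
      show M.presheaf.map _ _ = M.presheaf.map _ (M.presheaf.map _ _)
      rw [← ConcreteCategory.comp_apply, ← Functor.map_comp]
      rfl
    exact (funext key : ψ'.app (sq f U) ∘ ρ = _) ▸ hres.comp hinv
  haveI : IsIso ψ' := by
    have hk := Groth.L16.CohKernel.isCoh_kernel_cokernel hΔc hM ψ'
    haveI : Coh.IsQCoh (kernel ψ') := hk.1.1
    haveI : Coh.IsQCoh (cokernel ψ') := hk.2.1
    haveI : Mono ψ' := Preadditive.mono_of_isZero_kernel _ (isZero_of_sections f _ (fun w hw => by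
      obtain ⟨x, rfl⟩ := Groth.L16.CohClosedPush.support_push_subset Δ _ (Groth.L21.Mod.support_mono (kernel.ι ψ') hw)
      obtain ⟨_, ⟨U, hU, rfl⟩, hxU, -⟩ := X.isBasis_affineOpens.exists_subset_of_mem_open
        (Set.mem_univ x) isOpen_univ
      exact ⟨U, hU, le_diag_preimage f U hxU⟩) (fun U hU m => by
        refine Groth.L19.ProjBdl.injective_app_of_mono (kernel.ι ψ') _ ?_
        rw [map_zero]
        refine (hbij U hU).1 ?_
        rw [map_zero]
        exact congr($(congrArg (fun k => Scheme.Modules.Hom.app k (sq f U)) (kernel.condition ψ')) m)))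
    haveI : Epi ψ' := Preadditive.epi_of_isZero_cokernel _ (isZero_of_sections f _
      (fun w hw => hcov w (Groth.L21.Mod.support_epi (cokernel.π ψ') hw)) (fun U hU m => by
        obtain ⟨y, rfl⟩ := Groth.L16.AffineBC.surjective_app_of_epi (cokernel.π ψ') (isAffineOpen_sq f hU) m
        obtain ⟨x, rfl⟩ := (hbij U hU).2 y
        exact congr($(congrArg (fun k => Scheme.Modules.Hom.app k (sq f U)) (cokernel.condition ψ')) x)))
    exact isIso_of_mono_of_epi _
  exact ⟨(asIso ψ').symm⟩

end Groth.L07.FMDiag
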