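import Groth.Agent.L07.FMDiag.Twist
import Groth.Agent.L07.FMDiag.Derived
import Groth.Agent.L07.BvdB.PointSelf
import Groth.Agent.L29.DCoh.PCQCoh

/-! Kernels whose values on modules sit in degree zero. -/

set_option autoImplicit false
set_option linter.style.haveILetI false
set_option backward.defeqAttrib.useBackward true
set_option backward.isDefEq.respectTransparency false
set_option backward.isDefEq.respectTransparency.types false

universe u

open CategoryTheory CategoryTheory.Limits AlgebraicGeometry DerivedCategory HomologicalComplex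
attribute [local instance] HasDerivedCategory.standard

noncomputable section

namespace Groth.L07.FMDiag

open Groth.L00

local notation "up" => ComplexShape.up ℤ

variable {X Y P S : Scheme.{u}} {sX : X ⟶ S} {sY : Y ⟶ S} {p : P ⟶ X} {q : P ⟶ Y}
  [Flat p] [DCoh.HasLpull p] [DCoh.HasRpush q]

/-- The termwise twist of a complex. -/
abbrev twCx (L : CochainComplex P.Modules ℤ) : X.Modules ⥤ CochainComplex P.Modules ℤ :=
  Scheme.Modules.pullback p ⋙ termwise (DCoh.tensorBi (X := P)) L

/-- The tensor product on the pulled back modules with a K-flat complex, naturally. -/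
def ltIso (L : CochainComplex P.Modules ℤ) [DCoh.HasLTensorCx L] (hL : DCoh.IsKFlat L) :
    singleFunctor X.Modules 0 ⋙ DCoh.Lpull p ⋙ DCoh.LTensorCx L ≅ twCx (p := p) L ⋙ DerivedCategory.Q :=
  (Functor.associator _ _ _).symm ≪≫ Functor.isoWhiskerRight (pullSingleIso p) _ ≪≫
    Functor.associator _ _ _ ≪≫
    Functor.isoWhiskerLeft _ (Functor.associator _ _ _ ≪≫
      Functor.isoWhiskerLeft _ (Groth.L29.DC.Assoc.allIso L hL) ≪≫ (Functor.associator _ _ _).symm ≪≫
      Functor.isoWhiskerRight (termwiseIso (DCoh.tensorBi (X := P)) L).symm _) ≪≫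
    (Functor.associator _ _ _).symm

omit [Flat p] [DCoh.HasLpull p] in
/-- The values of the kernel in terms of the derived tensor with modules. -/
theorem nonempty_ltMod [∀ G : P.Modules, DCoh.HasLTensorMod G] (L : CochainComplex P.Modules ℤ)
    (hL : DCoh.IsKFlat L) {K : DCoh.D P} (e : DCoh.toD P L ≅ K) (T : X.Modules) :
    Nonempty ((DCoh.LTensorMod ((Scheme.Modules.pullback p).obj T)).obj K ≅
      DerivedCategory.Q.obj ((twCx (p := p) L).obj T)) :=
  ⟨(DCoh.LTensorMod _).mapIso e.symm ≪≫
    DerivedApi.objIso (DerivedApi.acyclicKFlat_tensorMod _) L hL ≪≫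
    DerivedCategory.Q.mapIso ((NatIso.mapHomologicalComplex (DerivedApi.tensorRightModIso _) up).app L)⟩

/-- The map to the twist of the cohomology in degree zero, naturally. -/
def toTopNat (L : CochainComplex P.Modules ℤ) [L.IsStrictlyLE 0] :
    twCx (p := p) L ⟶ twCx (p := p) ((single P.Modules up 0).obj (L.homology 0)) where
  app T := (((DCoh.tensorBi (X := P)).obj ((Scheme.Modules.pullback p).obj T)).mapHomologicalComplex up).map (toTop L)
  naturality T T' a := by
    refine HomologicalComplex.hom_ext _ _ fun n => ?_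
    exact (((DCoh.tensorBi (X := P)).map ((Scheme.Modules.pullback p).map a)).naturality ((toTop L).f n)).symm

variable [IsLocallyNoetherian X]

attribute [local instance] KFlat.hasLTensorCx

/-- Preserving the modules in `𝒯` up to a functorial isomorphism: the value of the kernel in degree zero. -/
theorem exists_mono (sq : IsPullback p q sX sY) [IsAffine S] (L : CochainComplex P.Modules ℤ) [L.IsStrictlyLE 0]
    (hL : DCoh.IsKFlat L) (hLq : DCoh.IsQCohD (DCoh.toD P L)) [∀ G : P.Modules, DCoh.HasLTensorMod G]
    {x : X} (hx : IsClosed ({x} : Set X)) (n : ℕ) (hn : 0 < n) (T' : Y.Modules)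
    (ι : (DCoh.Rpush q).obj ((DCoh.LTensorCx L).obj ((DCoh.Lpull p).obj
      (DCoh.inD X (Groth.L07.BvdB.ThickPoint.thick x n)))) ≅ DCoh.inD Y T') :
    ∃ θ : (Scheme.Modules.pushforward q).obj ((tw p (L.homology 0)).obj (Groth.L07.BvdB.ThickPoint.thick x n)) ⟶ T',
      Mono θ ∧ ∀ (a : Groth.L07.BvdB.ThickPoint.thick x n ⟶ Groth.L07.BvdB.ThickPoint.thick x n) (a' : T' ⟶ T'),
        (DCoh.Rpush q).map ((DCoh.LTensorCx L).map ((DCoh.Lpull p).map
          ((singleFunctor X.Modules 0).map a))) ≫ ι.hom = ι.hom ≫ (singleFunctor Y.Modules 0).map a' →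
        (Scheme.Modules.pushforward q).map ((tw p (L.homology 0)).map a) ≫ θ = θ ≫ a' := by
  haveI := Groth.L17.PushQCoh.additive_push q
  let T := Groth.L07.BvdB.ThickPoint.thick x n
  let M := L.homology 0
  let F := DCoh.Lpull p ⋙ DCoh.LTensorCx L
  have hvan : ∀ i : ℤ, i ≠ 0 → IsZero (((twCx (p := p) L).obj T).homology i) := fun i hi => by
    obtain ⟨eM⟩ := nonempty_ltMod (p := p) L hL (Iso.refl _) T
    have hz : IsZero (DCoh.HD ((DCoh.Rpush q).obj ((DCoh.LTensorMod
        ((Scheme.Modules.pullback p).obj T)).obj (DCoh.toD P L))) i) := by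
      refine IsZero.of_iso ?_ ((homologyFunctor Y.Modules i).mapIso ((DCoh.Rpush q).mapIso
        (eM ≪≫ ((ltIso (p := p) L hL).app T).symm) ≪≫ ι))
      rcases lt_or_gt_of_ne hi with h | h
      · exact DerivedCategory.isZero_of_isGE _ 0 i h
      · exact DerivedCategory.isZero_of_isLE _ 0 i h
    exact (Groth.L07.BvdB.FibrePush.isZero_twist sq hx n hn _ hLq i hz).of_iso
      ((homologyFunctor P.Modules i).mapIso eM ≪≫ (homologyFunctorFactors P.Modules i).app _).symm
  let ν : singleFunctor X.Modules 0 ⋙ F ⟶ tw p M ⋙ singleFunctor P.Modules 0 :=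
    (ltIso (p := p) L hL).hom ≫ Functor.whiskerRight (toTopNat (p := p) L) DerivedCategory.Q ≫
      (Functor.associator _ _ _).hom ≫
      Functor.whiskerLeft _ (Functor.whiskerRight (termwiseSingleIso (DCoh.tensorBi (X := P)) M).hom _ ≫
        (Functor.associator _ _ _).hom) ≫
      (Functor.associator _ _ _).inv ≫
      Functor.whiskerLeft _ ((SingleFunctors.evaluation _ _ 0).mapIso
        (DerivedCategory.singleFunctorsPostcompQIso P.Modules)).inv
  haveI hν : IsIso (ν.app T) := by
    haveI : PreservesFiniteColimits ((DCoh.tensorBi (X := P)).obj ((Scheme.Modules.pullback p).obj T)) :=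
      PreservesColimitsOfSize.preservesFiniteColimits _
    haveI := quasiIso_map_toTop L ((DCoh.tensorBi (X := P)).obj ((Scheme.Modules.pullback p).obj T)) hvan
    haveI : IsIso (DerivedCategory.Q.map ((toTopNat (p := p) L).app T)) :=
      (DerivedCategory.isIso_Q_map_iff_quasiIso _ _).2 this
    simp only [ν, NatTrans.comp_app, Functor.whiskerLeft_app, Functor.whiskerRight_app]
    infer_instance
  let R := DCoh.Rpush q ⋙ homologyFunctor Y.Modules 0
  haveI : IsIso (R.map (ν.app T)) := inferInstance
  let θ : (Scheme.Modules.pushforward q).obj ((tw p M).obj T) ⟶ T' :=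
    (zeroMap q).app ((tw p M).obj T) ≫ inv (R.map (ν.app T)) ≫ (homologyFunctor Y.Modules 0).map ι.hom ≫
      (singleFunctorCompHomologyFunctorIso Y.Modules 0).hom.app T'
  refine ⟨θ, ?_, fun a a' ha => ?_⟩
  · haveI := mono_zeroMap q ((tw p M).obj T)
    infer_instance
  · have e1 := (zeroMap q).naturality ((tw p M).map a)
    have e2 : R.map ((singleFunctor P.Modules 0).map ((tw p M).map a)) ≫ inv (R.map (ν.app T)) =
        inv (R.map (ν.app T)) ≫ R.map (F.map ((singleFunctor X.Modules 0).map a)) := by
      rw [IsIso.comp_inv_eq, Category.assoc, IsIso.eq_inv_comp, ← Functor.map_comp, ← Functor.map_comp]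
      exact congrArg R.map (ν.naturality a).symm
    have e3 := congrArg (homologyFunctor Y.Modules 0).map ha
    rw [Functor.map_comp, Functor.map_comp] at e3
    have e4 := (singleFunctorCompHomologyFunctorIso Y.Modules 0).hom.naturality a'
    change (Scheme.Modules.pushforward q).map ((tw p M).map a) ≫ θ = θ ≫ a'
    simp only [θ, Category.assoc]
    rw [← Category.assoc]
    refine (congrArg (fun φ => φ ≫ inv (R.map (ν.app T)) ≫ (homologyFunctor Y.Modules 0).map ι.hom ≫
      (singleFunctorCompHomologyFunctorIso Y.Modules 0).hom.app T') e1).trans ?_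
    rw [Category.assoc]
    refine congrArg ((zeroMap q).app ((tw p M).obj T) ≫ ·) ?_
    refine (Category.assoc _ _ _).symm.trans ((congrArg (fun φ => φ ≫ (homologyFunctor Y.Modules 0).map ι.hom ≫
      (singleFunctorCompHomologyFunctorIso Y.Modules 0).hom.app T') e2).trans ?_)
    rw [Category.assoc]
    refine congrArg (inv (R.map (ν.app T)) ≫ ·) ?_
    refine (Category.assoc _ _ _).symm.trans ((congrArg (· ≫
      (singleFunctorCompHomologyFunctorIso Y.Modules 0).hom.app T') e3).trans ?_)
    rw [Category.assoc]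
    exact congrArg (_ ≫ ·) e4

/-- Cohomology of the direct image in degree zero. -/
theorem nonempty_H0_Rpush (N : P.Modules) :
    Nonempty ((homologyFunctor Y.Modules 0).obj ((DCoh.Rpush q).obj (DCoh.inD P N)) ≅
      (Scheme.Modules.pushforward q).obj N) := by
  haveI := Groth.L17.PushQCoh.hasInjectiveResolutions P
  haveI := Groth.L29.DC.QRlim.enoughKInj P
  haveI := Groth.L17.PushQCoh.additive_push q
  haveI : EnoughInjectives P.Modules := (Groth.L10.ModRDer.insts P.sheaf).1
  obtain ⟨-, h⟩ := Groth.L10.RDerTri.isGE_single ((DCoh.pushKh q).totalRightDerivedUnit DerivedCategory.Qh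
    (HomotopyCategory.quasiIso P.Modules up)) N
  exact ⟨(h 0).some ≪≫ (Scheme.Modules.pushforward q).rightDerivedZeroIsoSelf.app N⟩

end Groth.L07.FMDiag
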