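import Groth.Agent.L07.FMDiag.Diag
import Groth.Agent.L07.BvdB.KrullFibre
import Groth.Agent.L07.BvdB.FibrePush
import Groth.Agent.L00.TensorQCoh
import Groth.Agent.L16.AffineBC.Pullback
import Groth.Agent.L15.Ref.Tensor

/-! Consequences of preserving the thickened points together with their scalar endomorphisms. -/

set_option autoImplicit false
set_option linter.style.haveILetI false
set_option backward.isDefEq.respectTransparency false
set_option backward.isDefEq.respectTransparency.types false

universe u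

open CategoryTheory CategoryTheory.Limits AlgebraicGeometry TopologicalSpace Opposite IsLocalRing TensorProduct

noncomputable section

namespace Groth.L07.FMDiag

open Groth.L07.BvdB.ThickPoint Groth.L00

section Local

variable {X : Scheme.{u}}

/-- The stalk at `x` of a scalar endomorphism of a thickened point. -/
theorem exists_scalar_endo {x : X} (n : ℕ) (hn : 0 < n) {U : X.Opens} (hU : x ∈ U) (r : Γ(X, U)) :
    ∃ a : thick x n ⟶ thick x n, (∀ t : Γ(thick x n, U), a.app U t = r • t) ∧
      ∀ q : (Stk.F X x).obj (thick x n), (Stk.F X x).map a q = X.presheaf.germ U x hU r • q := by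
  let σ : Γ(Spec (ring x n), ⊤) := (Scheme.ΓSpecIso (ring x n)).inv ((quot x n).hom (X.presheaf.germ U x hU r))
  let a : thick x n ⟶ thick x n := (Coh.push (incl x n)).map (Groth.L16.homOfSection (Coh.structureModule _) σ)
  have ha : ∀ (V : X.Opens) (hV : x ∈ V) (hVU : V ≤ U) (t : Γ(thick x n, V)),
      a.app V t = X.presheaf.map (homOfLE hVU).op r • t := by
    intro V hV hVU t
    obtain ⟨d, rfl⟩ := (bijective_cstS hn hV).2 t
    rw [smul_cstS hV, TopCat.Presheaf.germ_res_apply X.presheaf (homOfLE hVU) x hV r]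
    show (Groth.L16.homOfSection (Coh.structureModule (Spec (ring x n))) σ).app (incl x n ⁻¹ᵁ V)
      (cst x n V d) = cst x n V _
    rw [Groth.L16.homOfSection_app]
    show cst x n V d * cst x n V ((quot x n).hom (X.presheaf.germ U x hU r)) = _
    rw [map_mul, mul_comm]
  refine ⟨a, fun t => ?_, fun q => ?_⟩
  · rw [ha U hU le_rfl t]
    congr 1
    exact congr($(X.presheaf.map_id (op U)) r)
  · obtain ⟨W, hW, t, rfl⟩ := (thick x n).presheaf.exists_germ_eq (x := x) q
    let t' : Γ(thick x n, U ⊓ W) := res (thick x n) inf_le_right t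
    have ht : (thick x n).presheaf.germ (U ⊓ W) x ⟨hU, hW⟩ t' = (thick x n).presheaf.germ W x hW t :=
      germ_res (thick x n) inf_le_right ⟨hU, hW⟩ t
    rw [← ht]
    refine (DerSch.stalkFunctor_map_germ x a (U ⊓ W) ⟨hU, hW⟩ t').trans ?_
    rw [ha (U ⊓ W) ⟨hU, hW⟩ inf_le_left t', Groth.L20.ModStalk.germ_smul (thick x n),
      TopCat.Presheaf.germ_res_apply X.presheaf (homOfLE inf_le_left) x ⟨hU, hW⟩ r]

variable {P : Scheme.{u}} (p : P ⟶ X) (M : P.Modules)

/-- The twist of the kernel. -/
abbrev tw : X.Modules ⥤ P.Modules := Scheme.Modules.pullback p ⋙ (DCoh.tensorBi (X := P)).flip.obj M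

theorem tw_map {T T' : X.Modules} (a : T ⟶ T') :
    (tw p M).map a = Groth.L00.Tensor.tensorMap ((Scheme.Modules.pullback p).map a) (𝟙 M) :=
  congrArg (Groth.L00.Tensor.shf P).map
    ((MonoidalCategory.tensorHom_id _ _).symm.trans
      (congrArg (MonoidalCategory.tensorHom ((Groth.L00.Tensor.preF P).map ((Scheme.Modules.pullback p).map a)))
        ((Groth.L00.Tensor.preF P).map_id M).symm))

/-- A stalk-scalar endomorphism acts on the twist through the pulled back scalar. -/
theorem stalk_tw_smul (z : P) {T : X.Modules} (a : T ⟶ T) (r : X.presheaf.stalk (p z))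
    (ha : ∀ q : (Stk.F X (p z)).obj T, (Stk.F X (p z)).map a q = r • q)
    (v : (Stk.F P z).obj ((tw p M).obj T)) :
    (Stk.F P z).map ((tw p M).map a) v = (PullStalk.φ p z r) • v := by
  obtain ⟨w, rfl⟩ := (Stk.τ z ((Scheme.Modules.pullback p).obj T) M).toLinearEquiv.surjective v
  rw [tw_map]
  have h1 := congr($(Stk.τ_natural z ((Scheme.Modules.pullback p).map a) (𝟙 M)) w)
  rw [ConcreteCategory.comp_apply, ConcreteCategory.comp_apply] at h1
  refine h1.symm.trans (Eq.trans (congrArg _ ?_)
    ((Stk.τ z ((Scheme.Modules.pullback p).obj T) M).hom.hom.map_smul (PullStalk.φ p z r) w))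
  show TensorProduct.map ((Stk.F P z).map ((Scheme.Modules.pullback p).map a)).hom ((Stk.F P z).map (𝟙 M)).hom w = _
  have hg : ((Stk.F P z).map ((Scheme.Modules.pullback p).map a)).hom = (PullStalk.φ p z r) • LinearMap.id := by
    refine LinearMap.ext fun s => ?_
    let I := PullStalk.stalkIso p z
    obtain ⟨s', rfl⟩ := (I.app T).symm.toLinearEquiv.surjective s
    have h2 := congr($(I.inv.naturality a) s')
    rw [ConcreteCategory.comp_apply, ConcreteCategory.comp_apply] at h2
    refine h2.symm.trans ?_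
    show (I.inv.app T) _ = (PullStalk.φ p z r) • (I.inv.app T) s'
    refine Eq.trans (congrArg _ ?_) ((I.app T).inv.hom.map_smul (PullStalk.φ p z r) s')
    clear h2
    induction s' using TensorProduct.induction_on with
    | zero => exact (map_zero _).trans (smul_zero _).symm
    | tmul b q =>
      letI := (PullStalk.φ p z).toAlgebra
      refine (ModuleCat.ExtendScalars.map_tmul _ _ _ _).trans ?_
      rw [ha]
      exact (TensorProduct.smul_tmul r b q).symm
    | add b c hb hc => exact (map_add _ _ _).trans ((congrArg₂ (· + ·) hb hc).trans (smul_add _ _ _).symm)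
  rw [hg, CategoryTheory.Functor.map_id, ModuleCat.hom_id, TensorProduct.map_smul_left, TensorProduct.map_id]
  rfl

/-- Krull's intersection theorem on the thickened fibre. -/
theorem eq_zero_of_tens [IsLocallyNoetherian P] (hM : Coh.IsCoh M) (z : P) (v : (Stk.F P z).obj M)
    (h : ∀ n : ℕ, 0 < n → ∀ q : (Stk.F P z).obj ((Scheme.Modules.pullback p).obj (thick (p z) n)),
      (Stk.τ z ((Scheme.Modules.pullback p).obj (thick (p z) n)) M).hom (q ⊗ₜ v) = 0) : v = 0 := by
  haveI : Module.Finite (P.presheaf.stalk z) ((Stk.F P z).obj M) :=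
    Groth.L16.Rees.FibreMonoEpi.finite_stalk hM z
  have hmem : v ∈ ⨅ n : ℕ, maximalIdeal (P.presheaf.stalk z) ^ n •
      (⊤ : Submodule (P.presheaf.stalk z) ((Stk.F P z).obj M)) := by
    refine Submodule.mem_iInf _ |>.2 fun n => ?_
    rcases Nat.eq_zero_or_pos n with rfl | hn
    · simp
    let x := p z
    let φ := PullStalk.φ p z
    let J := Ideal.map φ (maximalIdeal (X.presheaf.stalk x) ^ n)
    have hJ : J ≤ maximalIdeal (P.presheaf.stalk z) ^ n := by
      refine (Ideal.map_pow φ _ n).le.trans (Ideal.pow_right_mono ?_ n)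
      have hloc : IsLocalHom φ := inferInstanceAs (IsLocalHom (p.stalkMap z).hom)
      exact ((IsLocalRing.local_hom_TFAE φ).out 0 2 :).1 hloc
    obtain ⟨et⟩ := nonempty_stalk_iso x n hn
    let MJ : ModuleCat.{u} (X.presheaf.stalk x) :=
      (ModuleCat.restrictScalars φ).obj (ModuleCat.of (P.presheaf.stalk z) (P.presheaf.stalk z ⧸ J))
    let one' : MJ := (1 : (P.presheaf.stalk z) ⧸ J)
    let ψ₁ : (Stk.F X x).obj (thick x n) →ₗ[X.presheaf.stalk x] MJ :=
      (Submodule.liftQ (maximalIdeal (X.presheaf.stalk x) ^ n)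
        (LinearMap.toSpanSingleton (X.presheaf.stalk x) MJ one') (fun a ha => by
        rw [LinearMap.mem_ker]
        show Ideal.Quotient.mk J (φ a) * 1 = 0
        rw [mul_one, Ideal.Quotient.eq_zero_iff_mem]
        exact Ideal.mem_map_of_mem φ ha)).comp et.symm.toLinearMap
    let ψ : (Stk.F X x).obj (thick x n) ⟶ MJ := ModuleCat.homEquiv.symm ψ₁
    let adjE := ModuleCat.extendRestrictScalarsAdj φ
    let eG := (PullStalk.stalkIso p z).app (thick x n)
    let π₁ := (adjE.homEquiv _ _).symm ψ
    let q := eG.inv (adjE.unit.app _ (et 1))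
    let π : (Stk.F P z).obj ((Scheme.Modules.pullback p).obj (thick x n)) →ₗ[P.presheaf.stalk z]
        (P.presheaf.stalk z) ⧸ J := π₁.hom.comp eG.hom.hom
    have hπ : π q = 1 := by
      show π₁ (eG.hom (eG.inv _)) = _
      rw [Iso.inv_hom_id_apply]
      refine Eq.trans (congrArg (fun m => (ConcreteCategory.hom m) (et 1))
        ((adjE.homEquiv_unit _ _ π₁).symm.trans ((adjE.homEquiv _ _).apply_symm_apply ψ))) ?_
      show ψ₁ (et 1) = one'
      simp only [ψ₁, LinearMap.comp_apply, LinearEquiv.coe_coe, LinearEquiv.symm_apply_apply]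
      exact one_smul (X.presheaf.stalk x) one'
    have h0 : q ⊗ₜ[P.presheaf.stalk z] v = 0 :=
      (Stk.τ z _ M).toLinearEquiv.injective ((h n hn q).trans (map_zero _).symm)
    have h1 := congrArg (TensorProduct.quotTensorEquivQuotSMul ((Stk.F P z).obj M) J) (congrArg (π.rTensor _) h0)
    rw [LinearMap.rTensor_tmul, hπ, map_zero, map_zero, show (1 : _ ⧸ J) = Ideal.Quotient.mk J 1 from rfl,
      TensorProduct.quotTensorEquivQuotSMul_mk_tmul, one_smul, Submodule.Quotient.mk_eq_zero] at h1
    exact Submodule.smul_mono_left hJ h1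
  rw [Ideal.iInf_pow_smul_eq_bot_of_isLocalRing _ (maximalIdeal.isMaximal _).ne_top, Submodule.mem_bot] at hmem
  exact hmem

/-- A scalar annihilating the sections on an affine open annihilates the stalks. -/
theorem smul_stalk_eq_zero (N : P.Modules) [Coh.IsQCoh N] {W : P.Opens} (hW : IsAffineOpen W) {z : P} (hz : z ∈ W)
    (d : P.presheaf.stalk z) (h : ∀ s : Γ(N, W), d • N.presheaf.germ W z hz s = 0) (v : N.presheaf.stalk z) :
    d • v = 0 := by
  letI := Groth.L20.ModStalk.stalkModule N hz
  haveI := Groth.L20.ModStalk.isLocalizedModule_germ N hW hz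
  obtain ⟨⟨s, t⟩, hst⟩ := IsLocalizedModule.surj (hW.primeIdealOf ⟨z, hz⟩).asIdeal.primeCompl
    (Groth.L20.ModStalk.germₗ N hz) v
  refine (IsLocalizedModule.smul_inj (Groth.L20.ModStalk.germₗ N hz) t _ _).1 ?_
  rw [smul_zero]
  show P.presheaf.germ W z hz t.1 • (d • v) = 0
  rw [smul_comm]
  exact (congrArg (d • ·) hst).trans (h s)

theorem support_tw_subset (z : P) (T : X.Modules) (hT : Subsingleton (T.presheaf.stalk (p z))) :
    z ∉ CohB1.support ((tw p M).obj T) := by
  refine not_not.2 ?_
  haveI : Subsingleton ((Stk.F X (p z)).obj T) := hT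
  have h0 : ∀ e : (Stk.F P z).obj ((Scheme.Modules.pullback p).obj T), e = 0 := fun e => by
    obtain ⟨s', rfl⟩ := ((PullStalk.stalkIso p z).app T).symm.toLinearEquiv.surjective e
    suffices s' = 0 by rw [this, map_zero]
    letI := (PullStalk.φ p z).toAlgebra
    induction s' using TensorProduct.induction_on with
    | zero => rfl
    | tmul b q => rw [Subsingleton.elim q 0]; exact TensorProduct.tmul_zero _ _
    | add b c hb hc =>
      refine (congrArg₂ (· + ·) hb hc).trans (add_zero _)
  refine ⟨fun a b => ?_⟩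
  have hz : ∀ v : (Stk.F P z).obj ((tw p M).obj T), v = 0 := fun v => by
    obtain ⟨w, rfl⟩ := (Stk.τ z ((Scheme.Modules.pullback p).obj T) M).toLinearEquiv.surjective v
    suffices w = 0 by rw [this, map_zero]
    induction w using TensorProduct.induction_on with
    | zero => rfl
    | tmul b q => rw [h0 b, TensorProduct.zero_tmul]
    | add b c hb hc => rw [hb, hc, add_zero]
  exact (hz a).trans (hz b).symm

end Local

variable {X S : Scheme.{u}} (f : X ⟶ S) [IsAffine S] [IsLocallyNoetherian X]
  [IsLocallyNoetherian (pullback f f)] [JacobsonSpace X] [LocallyOfFiniteType f]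

local notation "p₁" => pullback.fst f f
local notation "p₂" => pullback.snd f f

variable (M : (pullback f f).Modules) (hM : Coh.IsCoh M)
  (hθ : ∀ (x : X), IsClosed ({x} : Set X) → ∀ n : ℕ, 0 < n →
    ∃ θ : (Scheme.Modules.pushforward (pullback.snd f f)).obj ((tw (pullback.fst f f) M).obj (thick x n)) ⟶
        thick x n, Mono θ ∧ ∀ a : thick x n ⟶ thick x n,
          (Scheme.Modules.pushforward (pullback.snd f f)).map ((tw (pullback.fst f f) M).map a) ≫ θ = θ ≫ a)

omit [IsAffine S] [IsLocallyNoetherian X] [IsLocallyNoetherian (pullback f f)] in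
theorem closed_fst {z : (pullback f f :)} (hz : IsClosed ({z} : Set (pullback f f :))) :
    IsClosed ({p₁ z} : Set X) :=
  haveI : LocallyOfFiniteType p₁ := MorphismProperty.pullback_fst _ _ inferInstance
  Scheme.Hom.closePoints_subset_preimage_closedPoints p₁ hz

omit [IsAffine S] [JacobsonSpace X] [LocallyOfFiniteType f] [IsLocallyNoetherian (pullback f f)] in
include hM in
/-- The twists are coherent. -/
theorem isCoh_tensor_thick {x : X} (hx : IsClosed ({x} : Set X)) (n : ℕ) (hn : 0 < n) :
    Coh.IsCoh ((tw p₁ M).obj (thick x n)) :=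
  Groth.L15.Ref.isCoh_tensorMod (Groth.L16.AffineBC.isCoh_pullback p₁ (isCoh_thick hx n hn)) hM

include hM hθ

/-- The kernel lives on the diagonal. -/
theorem points_agree {z : (pullback f f :)} (hz : IsClosed ({z} : Set (pullback f f :)))
    (hs : z ∈ CohB1.support M) : p₁ z = p₂ z := by
  by_contra hne
  let x := p₁ z
  have hx : IsClosed ({x} : Set X) := closed_fst f hz
  obtain ⟨_, ⟨V, hV, rfl⟩, hyV, hVs⟩ := X.isBasis_affineOpens.exists_subset_of_mem_open
    (show p₂ z ∈ ({x} : Set X)ᶜ from fun h => hne (Set.mem_singleton_iff.1 h).symm) hx.isOpen_compl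
  obtain ⟨_, ⟨U, hU, rfl⟩, hxU, -⟩ := X.isBasis_affineOpens.exists_subset_of_mem_open (Set.mem_univ x) isOpen_univ
  let W : (pullback f f).Opens := p₁ ⁻¹ᵁ U ⊓ p₂ ⁻¹ᵁ V
  have hW : IsAffineOpen W :=
    Groth.L07.BoxSurj.isAffineOpen_inter _ _ (IsPullback.of_hasPullback f f) hU hV
  refine hs (⟨fun a b => ?_⟩)
  have hz0 : ∀ v : (Stk.F (pullback f f) z).obj M, v = 0 := fun v => eq_zero_of_tens p₁ M hM z v fun n hn q => by
    let N := (tw p₁ M).obj (thick x n)
    haveI : Coh.IsQCoh N := (isCoh_tensor_thick f M hM hx n hn).1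
    obtain ⟨θ, hmono, -⟩ := hθ x hx n hn
    have hN : ∀ s : Γ(N, p₂ ⁻¹ᵁ V), s = 0 := fun s => by
      refine Groth.L19.ProjBdl.injective_app_of_mono θ V ?_
      refine sections_ext (thick x n) fun y hy => ?_
      haveI : Subsingleton ((thick x n).presheaf.stalk y) :=
        not_not.1 fun h => hVs hy (support_thick hx n hn h)
      exact Subsingleton.elim _ _
    have hres := bijective_res' N (hx.preimage (Scheme.Hom.continuous p₁))
      (fun w hw => by_contra fun hwx => support_tw_subset p₁ M w (thick x n)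
        (not_not.1 fun h => hwx (support_thick hx n hn h)) hw)
      (inf_le_right : W ≤ p₂ ⁻¹ᵁ V) (fun w hw hwx => ⟨show p₁ w ∈ U from (Set.mem_singleton_iff.1 hwx) ▸ hxU, hw⟩)
    refine (one_smul _ _).symm.trans (smul_stalk_eq_zero N hW (show z ∈ W from ⟨hxU, hyV⟩) 1 (fun s => ?_) _)
    obtain ⟨s', rfl⟩ := hres.2 s
    rw [hN s', map_zero, map_zero, smul_zero]
  exact (hz0 a).trans (hz0 b).symm

/-- The two actions on the kernel agree. -/
theorem actions_agree [JacobsonSpace (pullback f f :)] {U : X.Opens} (hU : IsAffineOpen U) (r : Γ(X, U))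
    (s : Γ(M, sq f U)) : act₁ f U r • s = act₂ f U r • s := by
  rw [← sub_eq_zero]
  refine eq_zero_of_closed_germs M _ fun z hz hzc => ?_
  by_cases hzs : z ∈ CohB1.support M
  swap
  · haveI : Subsingleton (M.presheaf.stalk z) := not_not.1 hzs
    exact Subsingleton.elim _ _
  rw [map_sub, Groth.L20.ModStalk.germ_smul, Groth.L20.ModStalk.germ_smul, ← sub_smul]
  have hzU : z ∈ sq f U := hz
  let x := p₁ z
  have hx : IsClosed ({x} : Set X) := closed_fst f hzc
  have hxU : x ∈ U := hzU.1
  let d := (pullback f f).presheaf.germ (sq f U) z hzU (act₁ f U r) -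
    (pullback f f).presheaf.germ (sq f U) z hzU (act₂ f U r)
  refine eq_zero_of_tens p₁ M hM z _ fun n hn q => ?_
  let N := (tw p₁ M).obj (thick x n)
  haveI : Coh.IsQCoh N := (isCoh_tensor_thick f M hM hx n hn).1
  obtain ⟨a, haU, hast⟩ := exists_scalar_endo n hn hxU r
  obtain ⟨θ, hmono, hnat⟩ := hθ x hx n hn
  let ā := (tw p₁ M).map a
  have h1 : ∀ t : Γ(N, p₂ ⁻¹ᵁ U), ā.app (p₂ ⁻¹ᵁ U) t = Scheme.Hom.app p₂ U r • t := fun t => by
    refine Groth.L19.ProjBdl.injective_app_of_mono θ U ?_
    refine Eq.trans (congr($(congrArg (fun k => Scheme.Modules.Hom.app k U) (hnat a)) t)) ?_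
    show a.app U (θ.app U t) = θ.app U (r • (show Γ((Scheme.Modules.pushforward p₂).obj N, U) from t))
    rw [haU, Scheme.Modules.Hom.app_smul]
  have hres := bijective_res' N (hx.preimage (Scheme.Hom.continuous p₁))
    (fun w hw => by_contra fun hwx => support_tw_subset p₁ M w (thick x n)
      (not_not.1 fun h => hwx (support_thick hx n hn h)) hw)
    (inf_le_right : sq f U ≤ p₂ ⁻¹ᵁ U) (fun w hw hwx => ⟨show p₁ w ∈ U from (Set.mem_singleton_iff.1 hwx) ▸ hxU, hw⟩)
  have hd : ∀ v : N.presheaf.stalk z, d • v = 0 := smul_stalk_eq_zero N (isAffineOpen_sq f hU) hzU d fun s' => by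
    obtain ⟨t, rfl⟩ := hres.2 s'
    rw [germ_res]
    have h2 : (Stk.F (pullback f f) z).map ā (N.presheaf.germ (p₂ ⁻¹ᵁ U) z hzU.2 t) =
        N.presheaf.germ (p₂ ⁻¹ᵁ U) z hzU.2 (Scheme.Hom.app p₂ U r • t) := by
      rw [← h1]
      exact DerSch.stalkFunctor_map_germ z ā _ hzU.2 t
    rw [stalk_tw_smul p₁ M z a _ hast, Groth.L20.ModStalk.germ_smul] at h2
    rw [sub_smul, sub_eq_zero]
    refine Eq.trans ?_ (h2.trans ?_)
    · congr 1
      show _ = ((pullback.fst f f).stalkMap z).hom _
      rw [Scheme.Hom.germ_stalkMap_apply]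
      exact TopCat.Presheaf.germ_res_apply (pullback f f).presheaf (homOfLE inf_le_left) z hzU _
    · congr 1
      exact (TopCat.Presheaf.germ_res_apply (pullback f f).presheaf (homOfLE inf_le_right) z hzU _).symm
  rw [← TensorProduct.smul_tmul, ← TensorProduct.smul_tmul', map_smul]
  exact hd _

end Groth.L07.FMDiag
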